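import Cfsg.Agent.H704.DS.Base
import Cfsg.Agent.H293.DS.Fi24Facts

/-!
# S4906, the facts on `Fi24'` (helper293)
-/

set_option autoImplicit false

namespace Cfsg.Agent.H293.DS

open Cfsg Cfsg.Agent.H704 Cfsg.Agent.H704.DS

universe u

/-- the order of `Fi24'` -/
abbrev N24 : ℕ := 1255205709190661721292800

theorem facts_fi24 {K : Type u} [Group K] [Finite K] (h : Spor.IsoFi24' K) (him : IM K) :
    Facts K N24 [2, 3, 5, 7, 11, 13, 17, 23, 29] [(29, 14), (23, 11)] where
  card := card_fi24 h
  perfect := perfect_fi24 h
  prime := by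
    intro p hp
    simp only [List.mem_cons, List.not_mem_nil, or_false] at hp
    rcases hp with rfl | rfl | rfl | rfl | rfl | rfl | rfl | rfl | rfl <;> exact ⟨by norm_num, by norm_num⟩
  im := him
  sc := by
    intro q hq
    simp only [List.mem_cons, List.not_mem_nil, or_false] at hq
    have hc := card_fi24 h
    rcases hq with rfl | rfl
    · exact SCok.mk' 29 (by norm_num) (by norm_num) (by rw [hc]; norm_num) (by rw [hc]; norm_num) (sc29 h)
        (by rw [hc]) (by norm_num)
    · exact SCok.mk' 23 (by norm_num) (by norm_num) (by rw [hc]; norm_num) (by rw [hc]; norm_num) (sc23 h)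
        (by rw [hc]) (by norm_num)

end Cfsg.Agent.H293.DS
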