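import Cfsg.Agent.H999.DS.Lev

/-!
# Numerics of the row `Fi24'` of S4906 (helper293)
-/

set_option autoImplicit false
set_option maxRecDepth 100000

namespace Cfsg.Agent.H293.DS

open Cfsg Cfsg.Agent.H704 Cfsg.Agent.H999.DS

theorem chk_a : ((List.range 320).all fun i => levChk 6 (29 + i) 57477) = true := by decide +kernel

theorem chk_b : ((List.range 460).all fun i => levChk 6 (29 + i) 114954) = true := by decide +kernel

theorem no_fi24 {n : ℕ} (h1 : IsDeg n 57477 ∨ IsDeg n 114954) (h2 : IsDeg n 249458 ∨ IsDeg n 498916) : False := by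
  have hn : 29 ≤ n := by
    rcases h2 with h | h
    · exact le_of_prime h (by norm_num) (by norm_num)
    · exact le_of_prime h (by norm_num) (by norm_num)
  rcases h1 with h1 | h1 <;> rcases h2 with h2 | h2
  · exact Cfsg.Agent.H999.DS.kill h1 h2 (a := 29) (s := 320) (b := 349) hn (by norm_num) le_rfl lb29 (by norm_num)
      (by norm_num) (fun h => h) chk_a (by norm_num)
      (by norm_num) (by norm_num) (by norm_num) (by norm_num)
  · exact Cfsg.Agent.H999.DS.kill h1 h2 (a := 29) (s := 320) (b := 349) hn (by norm_num) le_rfl lb29 (by norm_num)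
      (by norm_num) (fun h => h) chk_a (by norm_num)
      (by norm_num) (by norm_num) (by norm_num) (by norm_num)
  · exact Cfsg.Agent.H999.DS.kill h1 h2 (a := 29) (s := 460) (b := 489) hn (by norm_num) le_rfl lb29 (by norm_num)
      (by norm_num) (fun h => h) chk_b (by norm_num)
      (by norm_num) (by norm_num) (by norm_num) (by norm_num)
  · exact Cfsg.Agent.H999.DS.kill h1 h2 (a := 29) (s := 460) (b := 489) hn (by norm_num) le_rfl lb29 (by norm_num)
      (by norm_num) (fun h => h) chk_b (by norm_num)
      (by norm_num) (by norm_num) (by norm_num) (by norm_num)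

end Cfsg.Agent.H293.DS
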