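import Cfsg.Agent.H293.DS.NumFi24
import Cfsg.Agent.H704.DS.Base
import Cfsg.Agent.H30.GraphFi24A

/-!
# S4906, the row `Fi24'` (helper293)

The degrees 57477 and 249458 of `Fi24'` (helper30) are not both of the form `d` or `d / 2` for degrees `d` of `S_n`.
-/

set_option autoImplicit false

namespace Cfsg.Agent.H293.DS

open Cfsg Cfsg.Agent.H704 Cfsg.Agent.H704.DS Cfsg.Agent.Characters.Core

universe u

/-- a degree of `Fi24'` gives a degree of the isomorphic group `K` -/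
theorem exists_irr_of_iso {K : Type u} [Group K] [Finite K] (e : K ≃* Spor.Fi24')
    {m : ℕ} (hm : ∃ χ : IrrCharacter Spor.Fi24', charDegree (χ : Spor.Fi24' → ℂ) = m) :
    ∃ ψ : K → ℂ, IsIrrCharacter K ψ ∧ ψ 1 = m := by
  have hfin : Finite Spor.Fi24' := Finite.of_equiv _ e.toEquiv
  obtain ⟨χ, hχ⟩ := hm
  refine ⟨(χ : Spor.Fi24' → ℂ) ∘ e, isIrr_comp e.toMonoidHom e.surjective χ.2, ?_⟩
  have h1 := Cfsg.Agent.Blocks.Knorr.charDegree_eq χ.2
  rw [Function.comp_apply, map_one, h1, hχ]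

/-- **Row `Fi24'`.** -/
theorem row_fi24 {K : Type u} [Group K] [Finite K] (h : Spor.IsoFi24' K) {n : ℕ} (_hn : 5 ≤ n)
    (hd : DegOK n K) : False := by
  obtain ⟨e⟩ := h
  obtain ⟨ψ₁, h1, k1⟩ := exists_irr_of_iso e H30.GraphFi24.exists_deg.1
  obtain ⟨ψ₂, h2, k2⟩ := exists_irr_of_iso e H30.GraphFi24.exists_deg.2
  obtain ⟨d₁, a1, b1⟩ := hd.degM.nat h1 k1
  obtain ⟨d₂, a2, b2⟩ := hd.degM.nat h2 k2
  refine no_fi24 (n := n) ?_ ?_
  · rcases b1 with rfl | ⟨-, rfl⟩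
    · exact Or.inl a1
    · exact Or.inr a1
  · rcases b2 with rfl | ⟨-, rfl⟩
    · exact Or.inl a2
    · exact Or.inr a2

end Cfsg.Agent.H293.DS
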